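import Mathlib.LinearAlgebra.FiniteDimensional.Basic
import Mathlib.LinearAlgebra.Projection
import Mathlib.LinearAlgebra.Basis.Prod
import Mathlib.LinearAlgebra.Dimension.Free
import Mathlib.LinearAlgebra.Matrix.ToLin
import Mathlib.Algebra.CharP.Two
import Mathlib.Tactic

/-! Commuting involutive linear maps in characteristic not two have a common eigenbasis. -/

namespace Cfsg.Agent.KSG.InvolutionBasis

open Module

variable {K : Type*} [Field K]

theorem exists_basis_aux (h2 : (2 : K) ≠ 0) :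
    ∀ (k : ℕ) (V : Type*) [AddCommGroup V] [Module K V] [FiniteDimensional K V],
    finrank K V = k → ∀ S : Set (Module.End K V), (∀ f ∈ S, ∀ v, f (f v) = v) →
    (∀ f ∈ S, ∀ g ∈ S, ∀ v, f (g v) = g (f v)) →
    ∃ b : Basis (Fin k) K V, ∀ f ∈ S, ∀ i, f (b i) = b i ∨ f (b i) = -b i := by
  intro k
  induction k using Nat.strong_induction_on with
  | _ k ih =>
    intro V _ _ _ hk S hsq hcomm
    by_cases hsc : ∀ f ∈ S, (∀ v, f v = v) ∨ (∀ v, f v = -v)
    · refine ⟨Module.finBasisOfFinrankEq K V hk, fun f hf i => ?_⟩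
      rcases hsc f hf with h | h
      · exact Or.inl (h _)
      · exact Or.inr (h _)
    push Not at hsc
    obtain ⟨a, ha, ⟨x, hx⟩, ⟨y, hy⟩⟩ := hsc
    let P := LinearMap.ker (a - 1)
    let M := LinearMap.ker (a + 1)
    have memP : ∀ v, v ∈ P ↔ a v = v := fun v => by simp [P, sub_eq_zero]
    have memM : ∀ v, v ∈ M ↔ a v = -v := fun v => by simp [M, add_eq_zero_iff_eq_neg]
    have hc : IsCompl P M := by
      constructor
      · rw [disjoint_iff, eq_bot_iff]
        rintro v ⟨h1, h3⟩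
        have h1' := (memP v).mp h1
        have h3' := (memM v).mp h3
        rw [h1', eq_neg_iff_add_eq_zero, ← two_smul K, smul_eq_zero] at h3'
        exact (Submodule.mem_bot K).mpr (h3'.resolve_left h2)
      · rw [codisjoint_iff, eq_top_iff]
        intro v _
        refine Submodule.mem_sup.mpr ⟨(2 : K)⁻¹ • (v + a v), (memP _).mpr ?_,
          (2 : K)⁻¹ • (v - a v), (memM _).mpr ?_, ?_⟩
        · rw [map_smul, map_add, hsq a ha, add_comm]
        · rw [map_smul, map_sub, hsq a ha, ← smul_neg, neg_sub]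
        · rw [← smul_add, add_add_sub_cancel, ← two_smul K v, smul_smul, inv_mul_cancel₀ h2, one_smul]
    have hP : ∀ f ∈ S, ∀ v ∈ P, f v ∈ P := fun f hf v hv => by
      rw [memP] at hv ⊢; rw [hcomm a ha f hf, hv]
    have hM : ∀ f ∈ S, ∀ v ∈ M, f v ∈ M := fun f hf v hv => by
      rw [memM] at hv ⊢; rw [hcomm a ha f hf, hv, map_neg]
    have hsum : finrank K P + finrank K M = k := by
      rw [← hk]; exact Submodule.finrank_add_eq_of_isCompl hc
    have hPne : P ≠ ⊥ := by
      intro h
      apply hy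
      have hM' : M = ⊤ := eq_top_of_isCompl_bot (h ▸ hc.symm)
      exact (memM y).mp (hM' ▸ Submodule.mem_top)
    have hMne : M ≠ ⊥ := by
      intro h
      apply hx
      have hP' : P = ⊤ := eq_top_of_isCompl_bot (h ▸ hc)
      exact (memP x).mp (hP' ▸ Submodule.mem_top)
    have := Submodule.one_le_finrank_iff.mpr hPne
    have := Submodule.one_le_finrank_iff.mpr hMne
    obtain ⟨bP, hbP⟩ := ih (finrank K P) (by omega) P rfl
      (Set.range fun f : S => (f.1).restrict (hP f.1 f.2))
      (by rintro _ ⟨f, rfl⟩ v; exact Subtype.ext (hsq f f.2 v))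
      (by rintro _ ⟨f, rfl⟩ _ ⟨g, rfl⟩ v; exact Subtype.ext (hcomm f f.2 g g.2 v))
    obtain ⟨bM, hbM⟩ := ih (finrank K M) (by omega) M rfl
      (Set.range fun f : S => (f.1).restrict (hM f.1 f.2))
      (by rintro _ ⟨f, rfl⟩ v; exact Subtype.ext (hsq f f.2 v))
      (by rintro _ ⟨f, rfl⟩ _ ⟨g, rfl⟩ v; exact Subtype.ext (hcomm f f.2 g g.2 v))
    let e := (bP.prod bM).map (Submodule.prodEquivOfIsCompl P M hc)
    refine ⟨e.reindex (finSumFinEquiv.trans (finCongr hsum)), fun f hf i => ?_⟩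
    rw [Basis.reindex_apply]
    rcases ((finSumFinEquiv.trans (finCongr hsum)).symm i) with j | j
    · have he : e (Sum.inl j) = (bP j : V) := by simp [e]
      rw [he]
      rcases hbP _ ⟨⟨f, hf⟩, rfl⟩ j with h | h
      · exact Or.inl (congrArg Subtype.val h)
      · exact Or.inr (congrArg Subtype.val h)
    · have he : e (Sum.inr j) = (bM j : V) := by simp [e]
      rw [he]
      rcases hbM _ ⟨⟨f, hf⟩, rfl⟩ j with h | h
      · exact Or.inl (congrArg Subtype.val h)
      · exact Or.inr (congrArg Subtype.val h)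

/-- A commutative group of exponent two acting faithfully by matrices: common eigenbasis. -/
theorem exists_matrix_basis (h2 : (2 : K) ≠ 0) {ι : Type*} [Fintype ι] [DecidableEq ι]
    (S : Set (Matrix ι ι K)) (hsq : ∀ M ∈ S, M * M = 1) (hcomm : ∀ M ∈ S, ∀ N ∈ S, M * N = N * M) :
    ∃ b : Basis (Fin (Fintype.card ι)) K (ι → K),
      ∀ M ∈ S, ∀ i, M.mulVec (b i) = b i ∨ M.mulVec (b i) = -b i := by
  obtain ⟨b, hb⟩ := exists_basis_aux h2 (Fintype.card ι) (ι → K) (Module.finrank_pi K)
    (Matrix.toLin' '' S)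
    (by rintro _ ⟨M, hM, rfl⟩ v
        simp [Matrix.mulVec_mulVec, hsq M hM])
    (by rintro _ ⟨M, hM, rfl⟩ _ ⟨N, hN, rfl⟩ v
        simp [Matrix.mulVec_mulVec, hcomm M hM N hN])
  exact ⟨b, fun M hM i => by simpa using hb _ ⟨M, hM, rfl⟩ i⟩

/-- Two elements with the same sign on every basis vector are equal. -/
theorem eq_of_same_signs {ι : Type*} [Fintype ι] [DecidableEq ι] {κ : Type*}
    (b : Basis κ K (ι → K)) (M N : Matrix ι ι K)
    (hM : ∀ i, M.mulVec (b i) = b i ∨ M.mulVec (b i) = -b i)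
    (hN : ∀ i, N.mulVec (b i) = b i ∨ N.mulVec (b i) = -b i)
    (h : ∀ i, (M.mulVec (b i) = b i ↔ N.mulVec (b i) = b i)) : M = N := by
  apply Matrix.toLin'.injective
  refine b.ext fun i => ?_
  simp only [Matrix.toLin'_apply]
  by_cases hh : M.mulVec (b i) = b i
  · rw [hh, (h i).mp hh]
  · rw [(hM i).resolve_left hh, (hN i).resolve_left (fun x => hh ((h i).mpr x))]

/-- The determinant is the product of the signs. -/
theorem det_eq_prod {ι : Type*} [Fintype ι] [DecidableEq ι] {κ : Type*} [Fintype κ]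
    (b : Basis κ K (ι → K)) (M : Matrix ι ι K) (s : κ → K)
    (hM : ∀ i, M.mulVec (b i) = s i • b i) : M.det = ∏ i, s i := by
  classical
  rw [← LinearMap.det_toLin' M, ← LinearMap.det_toMatrix b]
  have : LinearMap.toMatrix b b (Matrix.toLin' M) = Matrix.diagonal s := by
    ext i j
    rw [LinearMap.toMatrix_apply, Matrix.toLin'_apply, hM, map_smul, Basis.repr_self]
    rcases eq_or_ne i j with rfl | h
    · simp
    · simp [Matrix.diagonal_apply_ne _ h, h]
  rw [this, Matrix.det_diagonal]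

theorem two_ne_zero_of_odd_card {F : Type*} [Field F] [Fintype F] (h : Odd (Fintype.card F)) :
    (2 : F) ≠ 0 := by
  intro h2
  have : CharP F 2 := CharTwo.of_one_ne_zero_of_two_eq_zero one_ne_zero h2
  obtain ⟨n, _, hn⟩ := FiniteField.card F 2
  rw [hn, Nat.odd_pow_iff n.pos.ne'] at h
  exact absurd h (by decide)

end Cfsg.Agent.KSG.InvolutionBasis
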